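/-
Generation of Weyl groups by a Coxeter element and reflections.
-/
import Mathlib
import Cfsg.Prelude.Def_ChevStructure

namespace Cfsg.Agent.CoxeterGen

variable {G : Type*} [Group G]

theorem comm_of_sq {a b : G} (ha : a * a = 1) (hb : b * b = 1) (h : (a * b) ^ 2 = 1) : a * b = b * a := by
  have := eq_inv_of_mul_eq_one_left (show (a * b) * (a * b) = 1 by rwa [← sq])
  rw [this, mul_inv_rev, inv_eq_of_mul_eq_one_right ha, inv_eq_of_mul_eq_one_right hb]

theorem braid_of_cube {a b : G} (ha : a * a = 1) (hb : b * b = 1) (h : (a * b) ^ 3 = 1) :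
    a * b * a = b * a * b := by
  have h1 : (a * b * a) * (b * a * b) = 1 := by
    rw [pow_three] at h; simpa only [mul_assoc] using h
  rw [eq_inv_of_mul_eq_one_left h1, mul_inv_rev, mul_inv_rev, inv_eq_of_mul_eq_one_right ha,
    inv_eq_of_mul_eq_one_right hb, mul_assoc]

/-- Moving a reflection along the diagram. -/
theorem conj_step {a b P R : G} (ha : a * a = 1) (hb : b * b = 1) (h : (a * b) ^ 3 = 1)
    (hP : Commute P b) (hR : Commute R a) :
    (P * a * b * R) * a * (P * a * b * R)⁻¹ = b := by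
  have e1 : R * a * R⁻¹ = a := by rw [hR.eq, mul_inv_cancel_right]
  have e2 : P * b * P⁻¹ = b := by rw [hP.eq, mul_inv_cancel_right]
  calc (P * a * b * R) * a * (P * a * b * R)⁻¹ = P * (a * b * (R * a * R⁻¹) * b⁻¹ * a⁻¹) * P⁻¹ := by group
    _ = P * (b * a * b * b⁻¹ * a⁻¹) * P⁻¹ := by rw [e1, braid_of_cube ha hb h]
    _ = b := by rw [mul_inv_cancel_right, mul_inv_cancel_right, e2]

/-- The branch node: `s₀s₁s₂` and `s₃` give all four. -/
theorem branch_mem {H : Subgroup G} {s0 s1 s2 s3 : G} (h0 : s0 * s0 = 1) (h2 : s2 * s2 = 1) (h3 : s3 * s3 = 1)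
    (h1 : s1 * s1 = 1)
    (c01 : Commute s0 s1) (c12 : Commute s1 s2) (c03 : Commute s0 s3) (h02 : (s0 * s2) ^ 3 = 1)
    (h23 : (s2 * s3) ^ 3 = 1) (hc : s0 * s1 * s2 ∈ H) (hs : s3 ∈ H) : s0 ∈ H ∧ s1 ∈ H ∧ s2 ∈ H := by
  have e : s0 * s1 * s2 = s1 * (s0 * s2) := by rw [c01.eq, mul_assoc]
  have hcomm : Commute s1 (s0 * s2) := Commute.mul_right c01.symm c12
  have hs1 : s1 ∈ H := by
    have := pow_mem hc 3
    rw [e, hcomm.mul_pow, h02, mul_one, pow_three, h1, mul_one] at this
    exact this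
  have hu : s0 * s2 ∈ H := by
    have := mul_mem hs1 hc
    rwa [e, ← mul_assoc, h1, one_mul] at this
  have hs2 : s2 ∈ H := by
    have hx : s2 * s3 * s2 ∈ H := by
      have := mul_mem (mul_mem (inv_mem hu) hs) hu
      rwa [mul_inv_rev, inv_eq_of_mul_eq_one_right h0, inv_eq_of_mul_eq_one_right h2,
        show s2 * s0 * s3 * (s0 * s2) = s2 * (s0 * s3 * s0) * s2 by group, c03.eq, mul_assoc s3, h0,
        mul_one] at this
    rw [braid_of_cube h2 h3 h23] at hx
    have := mul_mem (mul_mem hs hx) hs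
    rwa [show s3 * (s3 * s2 * s3) * s3 = (s3 * s3) * s2 * (s3 * s3) by group, h3, one_mul, mul_one] at this
  refine ⟨?_, hs1, hs2⟩
  have := mul_mem hu hs2
  rwa [mul_assoc, h2, mul_one] at this

variable {B : Type} (M : CoxeterMatrix B)

theorem simple_mul_self (i : B) : M.simple i * M.simple i = 1 := M.toCoxeterSystem.simple_mul_simple_self i

theorem simple_pow {i j : B} {k : ℕ} (h : M i j = k) : (M.simple i * M.simple j) ^ k = 1 :=
  h ▸ M.toCoxeterSystem.simple_mul_simple_pow i j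

theorem simple_comm {i j : B} (h : M i j = 2) : Commute (M.simple i) (M.simple j) :=
  comm_of_sq (simple_mul_self M i) (simple_mul_self M j) (simple_pow M h)

theorem eq_top_of_mem {H : Subgroup M.Group} (h : ∀ i, M.simple i ∈ H) : H = ⊤ := by
  rw [eq_top_iff, ← M.toCoxeterSystem.subgroup_closure_range_simple, Subgroup.closure_le]
  rintro x ⟨i, rfl⟩
  exact h i

theorem step_mem {H : Subgroup M.Group} {i j : B} (P R : M.Group) (h : M i j = 3)
    (hP : Commute P (M.simple j)) (hR : Commute R (M.simple i))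
    (hc : P * M.simple i * M.simple j * R ∈ H) (hi : M.simple i ∈ H) : M.simple j ∈ H := by
  rw [← conj_step (simple_mul_self M i) (simple_mul_self M j) (simple_pow M h) hP hR]
  exact mul_mem (mul_mem hc hi) (inv_mem hc)

end Cfsg.Agent.CoxeterGen
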